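import Mathlib
import Cfsg.Agent.Lib.Sporadic.LeechGroups
import Cfsg.Agent.Lib.Sporadic.McLOut.Check

/-! The outer automorphism group of the McLaughlin group. -/

set_option autoImplicit false
set_option maxRecDepth 100000

namespace Cfsg.Agent.Lib.Sporadic.McLOut.Main

open Cfsg Cfsg.Agent.Lib.Compute.PermCert Cfsg.Agent.Lib.Compute.OutChain Cfsg.Agent.Lib.Compute.OutFinal
  Cfsg.Agent.Lib.Compute.OutFinal4 Cfsg.Agent.Lib.Compute.PermOut
  Cfsg.Agent.Lib.Sporadic.LeechBasic Cfsg.Agent.Lib.Sporadic.LeechKey Cfsg.Agent.Lib.Sporadic.LeechEnum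
  Cfsg.Agent.Lib.Sporadic.LeechA0 Cfsg.Agent.Lib.Sporadic.LeechMcLData Cfsg.Agent.Lib.Sporadic.LeechMcL
  Cfsg.Agent.Lib.Sporadic.LeechRep Cfsg.Agent.Lib.Sporadic.LeechGroups
  Cfsg.Agent.Lib.Sporadic.McLOut.Data Cfsg.Agent.Lib.Sporadic.McLOut.Check

theorem hN : X275.length = 275 := by decide +kernel

theorem hpres : ∀ g ∈ StabL FM, ∀ x ∈ latSet X275, g • x ∈ latSet X275 := by
  intro g hg x hx
  rw [← McLSet_std] at hx ⊢
  rw [mem_FM] at hg
  have := (mem_McLSet_smul g a0 b0El x).2 hx
  rwa [hg.1, hg.2] at this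

/-- The action on the 275 vectors. -/
noncomputable abbrev phi := rep hN X275_len X275_nodup X275_mem_lat (StabL FM) hpres

theorem hd : 275 ≤ 2 ^ 9 := by norm_num

theorem chkA : chkChain 9 511 275 21 2097151 (lrlvA.map Prod.fst) = true :=
  (chkChainF_eq hd (tw := 21) (tm := 2097151) (w := 9) (m := 511) (ls := lrlvA.map Prod.fst)).symm.trans chainA_ok

theorem gen0_ok : (List.range 275).all (fun i => permL iA0 (X275.getD i []) == X275.getD (get 9 511 eG0.f i) []) = true := by
  decide +kernel
theorem gen1_ok : (List.range 275).all (fun i => permL iA1 (X275.getD i []) == X275.getD (get 9 511 eG1.f i) []) = true := by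
  decide +kernel
theorem gen2_ok : (List.range 275).all (fun i => permL iA2 (X275.getD i []) == X275.getD (get 9 511 eG2.f i) []) = true := by
  decide +kernel
theorem gen3_ok : (List.range 275).all (fun i => matL Mg 4 (X275.getD i []) == X275.getD (get 9 511 eG3.f i) []) = true := by
  decide +kernel

theorem vals : [eG0, eG1, eG2, eG3].all (validB 9 511 275) = true := hdG_valid chkA

theorem val_of {e : Elt} (he : e ∈ [eG0, eG1, eG2, eG3]) : validB 9 511 275 e = true :=
  List.all_eq_true.1 vals e he

theorem mG : ∀ e ∈ hdG (lrlvA.map Prod.fst), permOf 9 511 275 e ∈ phi.range := by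
  intro e he
  have he' : e ∈ [eG0, eG1, eG2, eG3] := he
  have hv := val_of he'
  simp only [List.mem_cons, List.not_mem_nil, or_false] at he'
  rcases he' with rfl | rfl | rfl | rfl
  · exact permOf_mem_range hN X275_len X275_nodup X275_mem_lat _ hpres hv
      (acts_mem_StabL actA0 (by decide +kernel)) actA0 gen0_ok
  · exact permOf_mem_range hN X275_len X275_nodup X275_mem_lat _ hpres hv
      (acts_mem_StabL actA1 (by decide +kernel)) actA1 gen1_ok
  · exact permOf_mem_range hN X275_len X275_nodup X275_mem_lat _ hpres hv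
      (acts_mem_StabL actA2 (by decide +kernel)) actA2 gen2_ok
  · exact permOf_mem_range hN X275_len X275_nodup X275_mem_lat _ hpres hv
      (acts_mem_StabL (acts_mat Mg_ok) (by decide +kernel)) (acts_mat Mg_ok) gen3_ok

theorem hRep : ChainFor 9 511 275 21 2097151 phi.range (lrlvA.map Prod.fst) ∧ Function.Injective phi :=
  rep_chain hN X275_len X275_nodup X275_mem_lat (StabL FM) hpres chkA mG (by rw [card_StabL_FM, ordA])

/-- The group as a permutation group. -/
noncomputable abbrev K : Subgroup (Equiv.Perm (Fin 275)) := phi.range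

theorem hA : ChainFor 9 511 275 21 2097151 K (lrlvA.map Prod.fst) := hRep.1

theorem card_K : Nat.card K = 898128000 := by
  rw [← hA.ord]
  exact ordA

theorem out_eq : Nat.card (Out Cfsg.Spor.McL) = Nat.card (Out K) :=
  out_McL.trans (card_out_congr (MonoidHom.ofInjective hRep.2))

theorem mP : permOf 9 511 275 piE ∈ K := hA.mem_of_sift hd (gt_eq vP) siftP
theorem mR : permOf 9 511 275 rhoE ∈ K := hA.mem_of_sift hd (gt_eq vR) siftR
theorem mY : permOf 9 511 275 yE ∈ K := hA.mem_of_sift hd (gt_eq vY) siftY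

theorem hB : ChainFor 9 511 275 21 2097151 K (lrlvB.map Prod.fst) := by
  refine ChainFor.of_fast hd chainB_ok ?_ (by rw [ordB, card_K])
  refine (Subgroup.closure_le _).mpr ?_
  rintro _ ⟨e, he, rfl⟩
  have he' : e ∈ [piE, rhoE, yE] := he
  simp only [List.mem_cons, List.not_mem_nil, or_false] at he'
  rcases he' with rfl | rfl | rfl
  · exact mP
  · exact mR
  · exact mY

instance factP : Fact (Nat.Prime 11) := ⟨by norm_num⟩

theorem hpow : permOf 9 511 275 piE ^ 11 = 1 := pow_of_check vP hd powP

/-- The outer automorphism group of the McLaughlin group. -/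
theorem card_out : Nat.card (Out Cfsg.Spor.McL) = 2 := by
  rw [out_eq]
  refine card_out_two_ci (p := 11) (r := 3) (zk := 1) (pe := piE) (re := rhoE) (ye := yE) (te := tE) (ze := rhoE)
    (kills := kills) hB hd rfl vP vR vY vT ?_ hpow ?_ ?_ ?_ (by norm_num) (by norm_num) ?_ ?_ ?_ ?_ ?_ ?_ ?_ ?_ ?_ kF
  · rw [card_K]; norm_num
  · exact ne_one_of_point vP (i := 0) (by norm_num) (by decide +kernel)
  · exact rel_of_check vP vR hd relR
  · exact hexp2_of_check (by norm_num) (by decide)
  · exact hA.mem_of_sift hd (conj_rep vT vY) siftTY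
  · exact hA.mem_of_sift hd (conj_rep' vT vY) siftTY'
  · exact comm_of_check vT vP hd commTP
  · exact comm_of_check vT vR hd commTR
  · exact ne_comm_of_point vT vY (i := 0) (by norm_num) (by decide +kernel)
  · exact (pow_one _).symm
  · exact comm_of_check vY vR hd commYR
  · exact hconj_of_search hA hd vP vR mP mR hpow ruA sA
  · intro c hc hcz
    exact search_use hB hd (gt_eq vR) (gt_eq vR) ruB sB c hc hcz

end Cfsg.Agent.Lib.Sporadic.McLOut.Main
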